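import Mathlib
import Groth.Prelude.Def_PicF2
import Groth.Agent.SecTwistBridge.Basic
import Groth.Agent.ClSubLib.Annihilator
import Groth.Agent.InvExt.Main
import Groth.Agent.DCohLib.Betti
import Groth.Agent.CurveLib.Inv
import Groth.Agent.ParaFLib.Stalk

/-!
# The values of zero schemes of sections
-/

set_option autoImplicit false
set_option backward.isDefEq.respectTransparency false

universe u

open CategoryTheory CategoryTheory.Limits AlgebraicGeometry TopologicalSpace Opposite
open Groth.Agent.CohBase Groth.Agent.ParaFLib Groth.Agent.AmpleLib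

noncomputable section

namespace Groth.Agent.ZeroSchemeLib

variable {X : Scheme.{u}} {L : X.Modules}

/-- The sections `a` with `a • L(U) ⊆ O(U) • σ`. -/
def colonIdeal (s : Coh.structureModule X ⟶ L) (U : X.Opens) : Ideal Γ(X, U) where
  carrier := {a | ∀ m : Γ(L, U), ∃ b : Γ(X, U), a • m = b • resT (sec s) (O := U)}
  add_mem' {a a'} ha ha' m := by
    obtain ⟨b, hb⟩ := ha m; obtain ⟨b', hb'⟩ := ha' m
    exact ⟨b + b', by rw [add_smul, add_smul, hb, hb']⟩
  zero_mem' m := ⟨0, by simp⟩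
  smul_mem' c {a} ha m := by
    obtain ⟨b, hb⟩ := ha m
    exact ⟨c * b, by rw [smul_eq_mul, mul_smul, hb, mul_smul]⟩

theorem secVal_eq (s : Coh.structureModule X ⟶ L) (U : X.Opens) :
    (PicF2.secVal L s U : Γ(L, U)) = resT (sec s) (O := U) :=
  SecTwistBridge.val_eq s U

theorem zeroIdealOn_eq (s : Coh.structureModule X ⟶ L) (U : X.Opens) :
    (PicF2.zeroIdealOn L s U : Ideal Γ(X, U)) = colonIdeal s U := by
  refine Submodule.ext fun (a : Γ(X, U)) => ?_
  show (∀ m : Γ(L, U), ∃ b : Γ(X, U), a • m = b • (PicF2.secVal L s U : Γ(L, U))) ↔ _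
  rw [secVal_eq]
  rfl

theorem map_colonIdeal [Coh.IsQCoh L] (hft : CohB1.IsFT L) (s : Coh.structureModule X ⟶ L)
    (U : X.affineOpens) (g : Γ(X, U.1)) :
    (colonIdeal s U.1).map (X.presheaf.map (homOfLE (X.basicOpen_le g)).op).hom =
      colonIdeal s (X.basicOpen g) := by
  classical
  have hgW := X.basicOpen_le g
  let r : Γ(X, U.1) →+* Γ(X, X.basicOpen g) := (X.presheaf.map (homOfLE hgW).op).hom
  have hu : ∀ k, IsUnit (r (g ^ k)) := fun k => by
    rw [map_pow]
    exact (RingedSpace.isUnit_res_basicOpen _ g).pow k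
  have hσ : L.presheaf.map (homOfLE hgW).op (resT (sec s) (O := U.1)) =
      resT (sec s) (O := X.basicOpen g) := ParaFLib.res_res _ hgW _
  refine le_antisymm ?_ ?_
  · rw [Ideal.map_le_iff_le_comap]
    intro c hc t
    obtain ⟨n, m, hm⟩ := exists_pow_extend L U.2 g rfl t
    obtain ⟨b, hb⟩ := hc m
    obtain ⟨v, hv⟩ := hu n
    refine ⟨v⁻¹.1 * r b, (hu n).smul_left_cancel.1 ?_⟩
    show r (g ^ n) • r c • t = r (g ^ n) • (v⁻¹.1 * r b) • resT (sec s) (O := X.basicOpen g)
    rw [smul_comm, show r (g ^ n) • t = L.presheaf.map (homOfLE hgW).op m from hm.symm,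
      ← mul_smul, ← mul_assoc, ← hv, Units.mul_inv, one_mul]
    show X.presheaf.map (homOfLE hgW).op c • _ = r b • _
    rw [← ClSubLib.res_smul', hb, ClSubLib.res_smul', hσ]
  · intro c hc
    haveI := QCohLib.finite_sections L hft U.2
    obtain ⟨_, gen, hgen⟩ := Module.Finite.exists_fin (R := Γ(X, U.1)) (M := Γ(L, U.1))
    letI : Algebra Γ(X, U.1) Γ(X, X.basicOpen g) := r.toAlgebra
    haveI : IsLocalization.Away g Γ(X, X.basicOpen g) := U.2.isLocalization_basicOpen g
    obtain ⟨⟨a, d⟩, hd⟩ := IsLocalization.surj (Submonoid.powers g) c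
    obtain ⟨k, hk⟩ := d.2
    have hk' : c * r (g ^ k) = r a := by
      rw [show g ^ k = d.1 from hk]
      exact hd
    have hz : ∀ l, ∃ n : ℕ, g ^ n * a ∈
        {a' : Γ(X, U.1) | ∃ b : Γ(X, U.1), a' • gen l = b • resT (sec s) (O := U.1)} := fun l => by
      obtain ⟨b', hb'⟩ := hc (r (g ^ k) • L.presheaf.map (homOfLE hgW).op (gen l))
      obtain ⟨⟨b, d'⟩, hd'⟩ := IsLocalization.surj (Submonoid.powers g) b'
      obtain ⟨j, hj⟩ := d'.2
      have hj' : b' * r (g ^ j) = r b := by
        rw [show g ^ j = d'.1 from hj]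
        exact hd'
      obtain ⟨n, hn⟩ := exists_pow_zero L U.2 g rfl
        ((g ^ j * a) • gen l - b • resT (sec s) (O := U.1)) (by
          rw [map_sub, sub_eq_zero, ClSubLib.res_smul', ClSubLib.res_smul', hσ]
          show r (g ^ j * a) • L.presheaf.map (homOfLE hgW).op (gen l) = r b • _
          rw [map_mul, ← hk', ← hj', mul_smul, mul_smul, hb', mul_comm b', mul_smul])
      refine ⟨n + j, g ^ n * b, ?_⟩
      rw [sc_apply] at hn
      have hn' : g ^ n • ((g ^ j * a) • gen l - b • resT (sec s) (O := U.1)) = 0 := by simpa using hn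
      rw [smul_sub, sub_eq_zero, smul_smul, smul_smul, ← mul_assoc, ← pow_add] at hn'
      exact hn'
    choose n bl hn using hz
    let N := Finset.univ.sup n
    have hmem : g ^ N * a ∈ colonIdeal s U.1 := fun m => by
      have hm : m ∈ Submodule.span Γ(X, U.1) (Set.range gen) := hgen ▸ Submodule.mem_top
      have hle : Submodule.span Γ(X, U.1) (Set.range gen) ≤
          (Submodule.span Γ(X, U.1) {resT (sec s) (O := U.1)}).comap
            (LinearMap.lsmul Γ(X, U.1) Γ(L, U.1) (g ^ N * a)) := by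
        rw [Submodule.span_le]
        rintro _ ⟨l, rfl⟩
        obtain ⟨e, he⟩ := Nat.exists_eq_add_of_le (Finset.le_sup (f := n) (Finset.mem_univ l))
        refine Submodule.mem_span_singleton.2 ⟨g ^ e * bl l, ?_⟩
        show _ = (g ^ N * a) • gen l
        rw [show N = e + n l by simp only [N]; omega, pow_add, mul_assoc, mul_smul, mul_smul, ← hn l, smul_smul]
      obtain ⟨b, hb⟩ := Submodule.mem_span_singleton.1 (hle hm)
      exact ⟨b, hb.symm⟩
    obtain ⟨v, hv⟩ := hu (N + k)
    have : c = v⁻¹.1 * r (g ^ N * a) := by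
      rw [map_mul, ← hk', mul_left_comm (r (g ^ N)) c (r (g ^ k)), ← map_mul, ← pow_add, mul_left_comm, ← hv,
        Units.inv_mul, mul_one]
    rw [this]
    exact Ideal.mul_mem_left _ _ (Ideal.mem_map_of_mem _ hmem)

/-- For an invertible `L` the zero scheme has the expected ideals on affine opens. -/
theorem zeroScheme_ideal (hL : PicF.IsInvertible L) (s : Coh.structureModule X ⟶ L) (U : X.affineOpens) :
    (PicF2.zeroScheme L s).ideal U = colonIdeal s U.1 := by
  haveI := InvExt.isQCoh_of_isInvertible hL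
  have hft : CohB1.IsFT L := DCohLib.isFT_of_flf (CurveLib.isFinLocFree_of_isInvertible hL)
  let J : X.IdealSheafData :=
    { ideal := fun U => colonIdeal s U.1
      map_ideal_basicOpen := fun U g => map_colonIdeal hft s U g }
  have h : PicF2.zeroScheme L s = J :=
    (congrArg Scheme.IdealSheafData.ofIdeals (funext fun U => zeroIdealOn_eq s U.1)).trans
      (Scheme.IdealSheafData.ofIdeals_ideal J)
  rw [h]

theorem colonIdeal_of_gen (s : Coh.structureModule X ⟶ L) {W : X.Opens} {e : Γ(L, W)} (he : Gen W e)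
    {c : Γ(X, W)} (hc : c • e = resT (sec s) (O := W)) : colonIdeal s W = Ideal.span {c} := by
  have hb := he W le_rfl
  have hid : L.presheaf.map (homOfLE (le_refl W)).op e = e :=
    ConcreteCategory.congr_hom (L.presheaf.map_id _) e
  simp only [hid] at hb
  ext a
  rw [Ideal.mem_span_singleton']
  constructor
  · intro ha
    obtain ⟨b, hb'⟩ := ha e
    exact ⟨b, hb.1 (show (b * c) • e = a • e by rw [hb', mul_smul, hc])⟩
  · rintro ⟨b, rfl⟩ m
    obtain ⟨r, rfl⟩ := hb.2 m
    exact ⟨b * r, by show (b * c) • r • e = _; rw [← hc, smul_smul, smul_smul]; ring_nf⟩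


theorem eq_of_cover {ι : Type u} (W : ι → X.Opens) (hW : ⊤ ≤ iSup W) (σ τ : Γ(L, ⊤))
    (h : ∀ i, resT σ (O := W i) = resT τ (O := W i)) : σ = τ :=
  TopCat.Sheaf.eq_of_locally_eq' ⟨L.presheaf, L.isSheaf⟩ W ⊤ (fun i => homOfLE le_top) hW σ τ h

theorem zeroScheme_eq_of_unit (hL : PicF.IsInvertible L) (s s' : Coh.structureModule X ⟶ L)
    (a : Γ(X, ⊤)) (ha : IsUnit a) (h : sec s' = a • sec s) :
    PicF2.zeroScheme L s' = PicF2.zeroScheme L s := by
  refine Scheme.IdealSheafData.ext (funext fun U => ?_)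
  rw [zeroScheme_ideal hL, zeroScheme_ideal hL]
  obtain ⟨v, hv⟩ : IsUnit (X.presheaf.map (homOfLE (le_top : U.1 ≤ ⊤)).op a) := ha.map _
  have e : resT (sec s') (O := U.1) = v.1 • resT (sec s) (O := U.1) := by
    rw [hv, h]; exact ClSubLib.res_smul' le_top a (sec s)
  ext c
  show (∀ _, _) ↔ (∀ _, _)
  constructor <;> intro hc m <;> obtain ⟨b, hb⟩ := hc m
  · exact ⟨b * v.1, by rw [hb, e, smul_smul]⟩
  · exact ⟨b * v⁻¹.1, by rw [hb, e, smul_smul, mul_assoc, Units.inv_mul, mul_one]⟩

theorem exists_unit_of_zeroScheme_eq [IsIntegral X] (hL : PicF.IsInvertible L)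
    (s s' : Coh.structureModule X ⟶ L) (hs : s ≠ 0)
    (h : PicF2.zeroScheme L s' = PicF2.zeroScheme L s) :
    ∃ a : Γ(X, ⊤), IsUnit a ∧ sec s' = a • sec s := by
  have hpt : ∀ x : X, ∃ (W : X.affineOpens) (e : Γ(L, W.1)), x ∈ W.1 ∧ Gen W.1 e := fun x => by
    obtain ⟨W₀, e, hx, he⟩ := exists_gen_nhd hL x
    obtain ⟨V, hV, hxV, hVW⟩ := exists_isAffineOpen_mem_and_subset hx
    exact ⟨⟨V, hV⟩, _, hxV, he.res hVW⟩
  choose W e hxW he using hpt
  have hcov : ⊤ ≤ iSup fun x => (W x).1 := fun x _ => Opens.mem_iSup.2 ⟨x, hxW x⟩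
  have hid : ∀ x, L.presheaf.map (homOfLE (le_refl (W x).1)).op (e x) = e x := fun x =>
    ConcreteCategory.congr_hom (L.presheaf.map_id _) (e x)
  have hb : ∀ x, Function.Bijective fun r : Γ(X, (W x).1) => r • e x := fun x => by
    have := he x (W x).1 le_rfl
    simpa only [hid] using this
  choose c hc using fun x => (hb x).2 (resT (sec s) (O := (W x).1))
  choose c' hc' using fun x => (hb x).2 (resT (sec s') (O := (W x).1))
  -- restrictions to intersections
  have hres : ∀ (x : X) (V : X.Opens) (hV : V ≤ (W x).1), resT (sec s) (O := V) =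
      X.presheaf.map (homOfLE hV).op (c x) • L.presheaf.map (homOfLE hV).op (e x) := fun x V hV => by
    rw [← ClSubLib.res_smul', show c x • e x = _ from hc x]
    exact (ParaFLib.res_res le_top hV (sec s)).symm
  have hne : ∀ x, c x ≠ 0 := by
    intro x h0
    refine hs ?_
    have hz : ∀ y, c y = 0 := fun y => by
      haveI : Nonempty ((W x).1 ⊓ (W y).1 : X.Opens) := by
        obtain ⟨z, hz⟩ := nonempty_preirreducible_inter (W x).1.2 (W y).1.2 ⟨x, hxW x⟩ ⟨y, hxW y⟩
        exact ⟨⟨z, hz⟩⟩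
      refine map_injective_of_isIntegral X
        (homOfLE (inf_le_right : (W x).1 ⊓ (W y).1 ≤ (W y).1)) ?_
      rw [map_zero]
      refine ((he y).res inf_le_right _ le_rfl).1 ?_
      simp only [ParaFLib.res_res]
      rw [zero_smul, ← hres y _ inf_le_right, hres x _ inf_le_left, h0, map_zero, zero_smul]
    have hσ : sec s = 0 := eq_of_cover _ hcov _ _ fun y => by
      rw [← hc y, hz y]; simp [resT]
    rw [← secHom_sec s, hσ, ← secHom_sec (0 : Coh.structureModule X ⟶ L)]
    rfl
  have hu : ∀ x, ∃ v : (Γ(X, (W x).1))ˣ,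
      resT (sec s') (O := (W x).1) = v.1 • resT (sec s) (O := (W x).1) := fun x => by
    haveI : Nonempty (W x).1 := ⟨⟨x, hxW x⟩⟩
    have := congr($(h).ideal (W x))
    rw [zeroScheme_ideal hL, zeroScheme_ideal hL, colonIdeal_of_gen s' (he x) (hc' x),
      colonIdeal_of_gen s (he x) (hc x), Ideal.span_singleton_eq_span_singleton] at this
    obtain ⟨v, hv⟩ := this.symm
    exact ⟨v, by rw [← hc' x, ← hc x, ← hv, mul_comm]; exact mul_smul _ _ _⟩
  choose v hv using hu
  have hcomp : TopCat.Presheaf.IsCompatible X.sheaf.1 (fun x => (W x).1) fun x => (v x).1 := fun x y => by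
    haveI : Nonempty ((W x).1 ⊓ (W y).1 : X.Opens) := by
      obtain ⟨z, hz⟩ := nonempty_preirreducible_inter (W x).1.2 (W y).1.2 ⟨x, hxW x⟩ ⟨y, hxW y⟩
      exact ⟨⟨z, hz⟩⟩
    let V := (W x).1 ⊓ (W y).1
    have hV : V ≤ (W x).1 := inf_le_left
    have hV' : V ≤ (W y).1 := inf_le_right
    have key : ∀ (z : X) (hz : V ≤ (W z).1),
        resT (sec s') (O := V) = X.presheaf.map (homOfLE hz).op (v z).1 • resT (sec s) (O := V) :=
      fun z hz => by
        have := congrArg (fun t => L.presheaf.map (homOfLE hz).op t) (hv z)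
        simp only [ClSubLib.res_smul'] at this
        simpa only [resT, ParaFLib.res_res] using this
    have h0 : X.presheaf.map (homOfLE hV).op (c x) ≠ 0 := fun h0 =>
      hne x (map_injective_of_isIntegral X (homOfLE hV) (by rw [h0, map_zero]))
    have h1 := (key x hV).symm.trans (key y hV')
    rw [hres x V hV, smul_smul, smul_smul] at h1
    have h2 := ((he x).res hV V le_rfl).1 (by simpa only [ParaFLib.res_res] using h1)
    have h3 : X.presheaf.map (homOfLE hV).op (v x).1 = X.presheaf.map (homOfLE hV').op (v y).1 :=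
      mul_right_cancel₀ h0 h2
    exact h3
  obtain ⟨a, ha, -⟩ := TopCat.Sheaf.existsUnique_gluing' X.sheaf (fun x => (W x).1) ⊤
    (fun _ => homOfLE le_top) hcov _ hcomp
  refine ⟨a, RingedSpace.isUnit_of_isUnit_germ _ _ a fun z hz => ?_, ?_⟩
  · rw [← TopCat.Presheaf.germ_res_apply X.presheaf (homOfLE le_top) z (hxW z)]
    exact (show IsUnit _ from (ha z).symm ▸ (v z).isUnit).map _
  · refine eq_of_cover _ hcov _ _ fun x => ?_
    rw [hv x]
    have : X.presheaf.map (homOfLE (le_top : (W x).1 ≤ ⊤)).op a = (v x).1 := ha x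
    rw [← this]
    exact (ClSubLib.res_smul' le_top a (sec s)).symm

end Groth.Agent.ZeroSchemeLib
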